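import Groth.Agent.H86.GV.Step

/-!
# Grothendieck vanishing on Noetherian spaces
-/

set_option autoImplicit false
universe u

namespace Groth.Agent.H86.GV

open CategoryTheory Abelian Limits TopologicalSpace Opposite Groth.Agent.H86.Van

/-- the inductive step: vanishing on all proper closed subspaces implies vanishing on the space -/
theorem gv_step (Y : TopCat.{u}) [NoetherianSpace Y]
    (IH : ∀ T : Set Y, IsClosed T → T ≠ Set.univ → GV (TopCat.of T)) : GV Y := by
  intro F p hp
  by_cases hY : IsEmpty Y
  · exact Sheaf.subsingleton_H_of_isZero (isZero_of_isEmpty F) p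
  · rw [not_isEmpty_iff] at hY
    obtain ⟨q, rfl⟩ := pos_of_dim_lt p hp
    refine Groth.Agent.S0902.result q ?_ F (q + 1) (Nat.lt_succ_self q)
    intro U _ r hr
    have hr' : topologicalKrullDim Y < (r : WithBot ℕ∞) :=
      lt_of_lt_of_le hp (Nat.cast_le.2 hr)
    by_cases hirr : IrreducibleSpace Y
    · exact gv_free_irred IH U r hr'
    · exact gv_free_red hirr IH U r hr'

/-- Grothendieck vanishing for all spaces closed-embedded in a Noetherian space -/
theorem gv_of_closedEmbedding (X : TopCat.{u}) [NoetherianSpace X] :
    ∀ (Z : Closeds X) (Y : TopCat.{u}) (j : Y ⟶ X), Topology.IsClosedEmbedding j →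
      Set.range j = (Z : Set X) → GV Y := by
  intro Z
  induction Z using WellFoundedLT.induction with
  | ind Z ih =>
    intro Y j hj hrange
    have : NoetherianSpace Y := hj.isInducing.noetherianSpace
    apply gv_step
    intro T hT hTne
    let Z' : Closeds X := ⟨j '' T, hj.isClosedMap T hT⟩
    have hlt : Z' < Z := by
      refine lt_of_le_of_ne ?_ ?_
      · intro x hx
        have hx' : x ∈ j '' T := hx
        rw [← SetLike.mem_coe, ← hrange]
        exact Set.image_subset_range _ _ hx'
      · intro heq
        apply hTne
        have h1 : j '' T = Set.range j := by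
          rw [hrange]
          exact congrArg (fun c : Closeds X => (c : Set X)) heq
        rw [← Set.image_univ] at h1
        exact hj.injective.image_injective h1
    refine ih Z' hlt (TopCat.of T) (inclT T ≫ j) ?_ ?_
    · exact hj.comp (inclT_isClosedEmbedding hT)
    · change Set.range (j ∘ (Subtype.val : T → Y)) = j '' T
      rw [Set.range_comp, Subtype.range_coe]

/-- Grothendieck vanishing -/
theorem grothendieck_vanishing (X : TopCat.{u}) [NoetherianSpace X] : GV X := by
  refine gv_of_closedEmbedding X ⊤ X (𝟙 X) ?_ ?_
  · exact Topology.IsClosedEmbedding.id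
  · change Set.range (id : X → X) = Set.univ
    exact Set.range_id

end Groth.Agent.H86.GV
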