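import Mathlib.Topology.KrullDimension
import Mathlib.Topology.NoetherianSpace
import Groth.Prelude.Def_CohTop

/-!
# Auxiliary lemmas for Grothendieck vanishing: dimension of proper closed subsets, empty spaces
-/

set_option autoImplicit false
universe u

namespace Groth.Agent.H86.GV

open CategoryTheory Limits TopologicalSpace Opposite Order

/-- a proper closed subset of an irreducible space has strictly smaller dimension -/
lemma dim_lt_of_proper_closed {Y : Type u} [TopologicalSpace Y] [IrreducibleSpace Y] (T : Set Y)
    (hT : IsClosed T) (hne : T ≠ Set.univ) (r : ℕ)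
    (h : topologicalKrullDim Y < ((r + 1 : ℕ) : WithBot ℕ∞)) :
    topologicalKrullDim T < (r : WithBot ℕ∞) := by
  by_contra hcon
  rw [not_lt] at hcon
  obtain ⟨l, hl⟩ := (le_krullDim_iff (α := IrreducibleCloseds T)).1 hcon
  have hf : StrictMono (IrreducibleCloseds.map (Subtype.val : T → Y) continuous_subtype_val) :=
    IrreducibleCloseds.map_strictMono_of_isInducing Topology.IsInducing.subtypeVal
  let top : IrreducibleCloseds Y :=
    ⟨Set.univ, (IrreducibleSpace.isIrreducible_univ Y), isClosed_univ⟩
  have hlast : (l.map _ hf).last < top := by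
    rw [LTSeries.last_map]
    refine lt_of_le_of_ne (fun x _ => Set.mem_univ x) ?_
    intro heq
    apply hne
    have h1 : closure ((Subtype.val : T → Y) '' (l.last : Set T)) ⊆ T := by
      apply closure_minimal _ hT
      rintro _ ⟨y, _, rfl⟩
      exact y.2
    have h2 : (IrreducibleCloseds.map (Subtype.val : T → Y) continuous_subtype_val l.last : Set Y)
        = Set.univ := congrArg (fun c : IrreducibleCloseds Y => (c : Set Y)) heq
    rw [IrreducibleCloseds.coe_map] at h2
    rw [h2] at h1
    exact Set.eq_univ_of_univ_subset h1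
  have h3 := LTSeries.length_le_krullDim ((l.map _ hf).snoc top hlast)
  have h4 : (((l.map _ hf).snoc top hlast).length : WithBot ℕ∞) = ((r + 1 : ℕ) : WithBot ℕ∞) := by
    congr 1
    simp [hl]
  rw [h4] at h3
  exact absurd (lt_of_le_of_lt h3 h) (lt_irrefl _)

/-- abelian sheaves on an empty space are zero -/
lemma isZero_of_isEmpty {Y : TopCat.{u}} [IsEmpty Y] (F : CohTop.Ab Y) : IsZero F := by
  rw [IsZero.iff_id_eq_zero]
  ext W : 3
  have hW : W.unop = ⊥ := by
    ext x
    exact isEmptyElim x
  exact (TopCat.Sheaf.isTerminalOfEqEmpty F hW).hom_ext _ _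

end Groth.Agent.H86.GV
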