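import Mathlib.Algebra.Homology.DerivedCategory.Ext.ExactSequences

/-!
# Single-degree vanishing of `Ext` along short exact sequences
-/

set_option autoImplicit false
universe w v u

namespace Groth.Agent.H86.GV

open CategoryTheory Abelian Limits

variable {A : Type u} [Category.{v} A] [Abelian A] [HasExt.{w} A] {T : A}

lemma ext_subsingleton_of_iso {F G : A} (e : F ≅ G) (p : ℕ) (h : Subsingleton (Ext.{w} T F p)) :
    Subsingleton (Ext.{w} T G p) := by
  refine ⟨fun x y => ?_⟩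
  have key : ∀ z : Ext.{w} T G p, z = 0 := by
    intro z
    have h1 : (z.comp (Ext.mk₀ e.inv) (add_zero p)).comp (Ext.mk₀ e.hom) (add_zero p) = z := by
      rw [Ext.comp_assoc_of_third_deg_zero, Ext.mk₀_comp_mk₀, e.inv_hom_id, Ext.comp_mk₀_id]
    rw [← h1, Subsingleton.elim (z.comp (Ext.mk₀ e.inv) (add_zero p)) 0, Ext.zero_comp]
  rw [key x, key y]

lemma ext_subsingleton_X₂ {S : ShortComplex A} (hS : S.ShortExact) (p : ℕ)
    (h₁ : Subsingleton (Ext.{w} T S.X₁ p)) (h₃ : Subsingleton (Ext.{w} T S.X₃ p)) :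
    Subsingleton (Ext.{w} T S.X₂ p) := by
  refine ⟨fun x y => ?_⟩
  have key : ∀ z : Ext.{w} T S.X₂ p, z = 0 := by
    intro z
    obtain ⟨x₁, rfl⟩ := Ext.covariant_sequence_exact₂ T hS z (Subsingleton.elim _ _)
    rw [Subsingleton.elim x₁ 0, Ext.zero_comp]
  rw [key x, key y]

lemma ext_subsingleton_X₁ {S : ShortComplex A} (hS : S.ShortExact) (p : ℕ)
    (h₃ : Subsingleton (Ext.{w} T S.X₃ p)) (h₂ : Subsingleton (Ext.{w} T S.X₂ (p + 1))) :
    Subsingleton (Ext.{w} T S.X₁ (p + 1)) := by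
  refine ⟨fun x y => ?_⟩
  have key : ∀ z : Ext.{w} T S.X₁ (p + 1), z = 0 := by
    intro z
    obtain ⟨x₃, rfl⟩ := Ext.covariant_sequence_exact₁ T hS z (Subsingleton.elim _ _) rfl
    rw [Subsingleton.elim x₃ 0, Ext.zero_comp]
  rw [key x, key y]

end Groth.Agent.H86.GV
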