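import Groth.Agent.H86.Van.Free

/-!
# Quotient presheaves and the cokernel sequence
-/

set_option autoImplicit false
universe u

namespace Groth.Agent.H86.GV

open CategoryTheory Abelian Limits TopologicalSpace Opposite Groth.Agent.H86.Van

variable {X : TopCat.{u}} {F : Pre X}

/-- the quotient of a presheaf by a sub-presheaf -/
def quotPre (G : SubPre F) : Pre X where
  obj W := AddCommGrpCat.of (F.obj W ⧸ G.carrier W)
  map {W W'} f := AddCommGrpCat.ofHom
    (QuotientAddGroup.map (G.carrier W) (G.carrier W') (F.map f).hom
      (fun s hs => G.map_mem f s hs))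
  map_id W := by
    apply AddCommGrpCat.hom_ext
    apply QuotientAddGroup.addMonoidHom_ext
    ext s
    simp
  map_comp f g := by
    apply AddCommGrpCat.hom_ext
    apply QuotientAddGroup.addMonoidHom_ext
    ext s
    simp

/-- the projection to the quotient presheaf -/
def quotπ (G : SubPre F) : F ⟶ quotPre G where
  app W := AddCommGrpCat.ofHom (QuotientAddGroup.mk' (G.carrier W))
  naturality _ _ _ := by
    apply AddCommGrpCat.hom_ext
    ext s
    rfl

lemma quotπ_surjective (G : SubPre F) (W) : Function.Surjective ((quotπ G).app W) :=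
  QuotientAddGroup.mk'_surjective _

lemma quotπ_eq_zero_iff (G : SubPre F) (W) (s : F.obj W) :
    (quotπ G).app W s = 0 ↔ s ∈ G.carrier W :=
  QuotientAddGroup.eq_zero_iff s

/-- the short exact sequence of sheaves `0 → E^# → F^# → (F / im φ)^# → 0` attached to a pointwise
injective morphism of presheaves -/
lemma shortExact_coker {E : Pre X} (φ : E ⟶ F) (hφ : ∀ W, Function.Injective (φ.app W)) :
    ((ShortComplex.mk φ (quotπ (SubPre.range φ)) (by
      ext W e
      exact (quotπ_eq_zero_iff _ W _).2 ⟨e, rfl⟩)).map (shf X)).ShortExact := by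
  apply shortExact_shf_of_pointwise _ _ _ hφ (quotπ_surjective _)
  intro W y hy
  exact (quotπ_eq_zero_iff _ W y).1 hy

lemma quotPre_subsingleton (G : SubPre F) (W) (h : G.carrier W = ⊤) :
    Subsingleton ((quotPre G).obj W) := by
  change Subsingleton (F.obj W ⧸ G.carrier W)
  rw [h]
  exact QuotientAddGroup.subsingleton_quotient_top

end Groth.Agent.H86.GV
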