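import Groth.Agent.H86.Van.Pre
import Mathlib.Topology.Sheaves.Stalks

/-!
# Vanishing of stalks of a sheafification
-/

set_option autoImplicit false
universe u

namespace Groth.Agent.H86.GV

open CategoryTheory Abelian Limits TopologicalSpace Opposite Groth.Agent.H86.Van

variable {X : TopCat.{u}}

/-- if a presheaf has no nonzero sections over small neighbourhoods of `x`, then the stalk of its
sheafification at `x` vanishes -/
lemma stalk_shf_isZero (P : Pre X) (x : X) (U₀ : Opens X) (hx : x ∈ U₀)
    (hP : ∀ W : Opens X, W ≤ U₀ → x ∈ W → Subsingleton (P.obj (op W))) :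
    IsZero (CohTop.stalk ((shf X).obj P) x) := by
  have : Subsingleton (CohTop.stalk ((shf X).obj P) x) := by
    refine ⟨fun a b => ?_⟩
    have key : ∀ t : CohTop.stalk ((shf X).obj P) x, t = 0 := by
      intro t
      obtain ⟨W₁, hW₁, m, s, rfl⟩ :=
        TopCat.Presheaf.exists_le_germ_eq (C := AddCommGrpCat.{u}) ((shf X).obj P).obj t hx
      have hs := Presheaf.imageSieve_mem (Opens.grothendieckTopology X)
        (toSheafify (Opens.grothendieckTopology X) P) (U := op W₁) s
      obtain ⟨W₂, f, ⟨t₂, ht₂⟩, hxW₂⟩ := hs x m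
      have := hP W₂ (f.le.trans hW₁) hxW₂
      have ht0 : t₂ = 0 := Subsingleton.elim _ _
      rw [← TopCat.Presheaf.germ_res_apply _ f x hxW₂ s, ← ht₂, ht0, map_zero, map_zero]
    rw [key a, key b]
  exact AddCommGrpCat.isZero_of_subsingleton _

end Groth.Agent.H86.GV
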