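import Groth.Agent.H86.GV.Ext1
import Groth.Agent.S6857
import Groth.Agent.S0459

/-!
# Cohomology of sheaves supported on a closed subspace
-/

set_option autoImplicit false
universe u

namespace Groth.Agent.H86.GV

open CategoryTheory Abelian Limits TopologicalSpace Opposite

/-- if a sheaf on `Y` has vanishing stalks outside the image of a closed embedding `T' → Y` and
`H^q(T', -)` vanishes, then `H^q(Y, F) = 0` -/
lemma H_subsingleton_of_supported {Y T' : TopCat.{u}} (i : T' ⟶ Y)
    (hi : Topology.IsClosedEmbedding i) (F : CohTop.Ab Y)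
    (hF : ∀ x : Y, x ∉ Set.range i → IsZero (CohTop.stalk F x)) (q : ℕ)
    (hT : ∀ G : CohTop.Ab T', Subsingleton (CohTop.H G q)) : Subsingleton (CohTop.H F q) := by
  obtain ⟨_, _, _, hess, _⟩ := Groth.Agent.S6857.result i hi
  obtain ⟨G, ⟨e⟩⟩ := (hess F).2 hF
  obtain ⟨eq⟩ := Groth.Agent.S0459.result i hi G q
  have h1 := hT G
  have h2 : Subsingleton (CohTop.H ((CohTop.push i).obj G) q) := eq.symm.toEquiv.subsingleton
  exact ext_subsingleton_of_iso e q h2

end Groth.Agent.H86.GV
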