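import Groth.Agent.H86.GV.Quot
import Groth.Agent.H86.GV.Stalk
import Groth.Agent.H86.GV.Supp
import Groth.Agent.H86.GV.Dim
import Groth.Agent.S0902
import Groth.Agent.S0457

/-!
# Grothendieck vanishing: the inductive step
-/

set_option autoImplicit false
universe u

namespace Groth.Agent.H86.GV

open CategoryTheory Abelian Limits TopologicalSpace Opposite Groth.Agent.H86.Van

/-- Grothendieck vanishing for a space: `H^p(Y, F) = 0` for `p > dim Y` -/
def GV (Y : TopCat.{u}) : Prop :=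
  ∀ (F : CohTop.Ab Y) (p : ℕ), topologicalKrullDim Y < (p : WithBot ℕ∞) →
    Subsingleton (CohTop.H F p)

/-- the inclusion of a subset, as a morphism of `TopCat` -/
def inclT {Y : TopCat.{u}} (T : Set Y) : TopCat.of T ⟶ Y :=
  TopCat.ofHom ⟨Subtype.val, continuous_subtype_val⟩

lemma inclT_isClosedEmbedding {Y : TopCat.{u}} {T : Set Y} (hT : IsClosed T) :
    Topology.IsClosedEmbedding (inclT T) :=
  hT.isClosedEmbedding_subtypeVal

lemma range_inclT {Y : TopCat.{u}} (T : Set Y) : Set.range (inclT T) = T :=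
  Subtype.range_coe

lemma H_subsingleton_of_supp {Y : TopCat.{u}} (T : Set Y) (hT : IsClosed T)
    (hGV : GV (TopCat.of T)) (F : CohTop.Ab Y)
    (hF : ∀ x : Y, x ∉ T → IsZero (CohTop.stalk F x)) (q : ℕ)
    (hq : topologicalKrullDim T < (q : WithBot ℕ∞)) : Subsingleton (CohTop.H F q) :=
  H_subsingleton_of_supported (inclT T) (inclT_isClosedEmbedding hT) F
    (fun x hx => hF x (by rwa [range_inclT] at hx)) q (fun G => hGV G q hq)

lemma freePre_subsingleton_of_not_le {Y : TopCat.{u}} (V W : Opens Y) (h : ¬ W ≤ V) :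
    Subsingleton ((freePre V).obj (op W)) := by
  change Subsingleton (FreeAbelianGroup (W ⟶ V))
  refine ⟨fun a b => ?_⟩
  have key : ∀ z : FreeAbelianGroup (W ⟶ V), z = 0 := by
    intro z
    rcases freeAbelianGroup_subsingleton_cases z with rfl | ⟨t, _, _⟩
    · rfl
    · exact absurd t.le h
  rw [key a, key b]

lemma zmultiples_ulift_one : AddSubgroup.zmultiples (⟨1⟩ : ULift.{u} ℤ) = ⊤ := by
  rw [eq_top_iff]
  intro x _
  rw [AddSubgroup.mem_zmultiples_iff]
  refine ⟨x.down, ULift.ext _ _ ?_⟩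
  simp

lemma ulift_one_ne_zero : (⟨1⟩ : ULift.{u} ℤ) ≠ 0 := by
  intro h0
  have := congrArg ULift.down h0
  simp at this

lemma dim_empty_lt {Y : TopCat.{u}} (q : ℕ) :
    topologicalKrullDim (∅ : Set Y) < (q : WithBot ℕ∞) := by
  have : IsEmpty (IrreducibleCloseds (∅ : Set Y)) := by
    refine ⟨fun c => ?_⟩
    obtain ⟨x, _⟩ := c.isIrreducible.nonempty
    exact x.2
  unfold topologicalKrullDim
  rw [Order.krullDim_eq_bot]
  exact WithBot.bot_lt_coe _

lemma pos_of_dim_lt {Y : TopCat.{u}} [Nonempty Y] (r : ℕ)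
    (hr : topologicalKrullDim Y < (r : WithBot ℕ∞)) : ∃ r', r = r' + 1 := by
  apply Nat.exists_eq_succ_of_ne_zero
  rintro rfl
  obtain ⟨y⟩ := ‹Nonempty Y›
  have : Nonempty (IrreducibleCloseds Y) :=
    ⟨⟨closure {y}, isIrreducible_singleton.closure, isClosed_closure⟩⟩
  have h0 : (0 : WithBot ℕ∞) ≤ topologicalKrullDim Y := Order.krullDim_nonneg
  rw [Nat.cast_zero] at hr
  exact absurd (lt_of_le_of_lt h0 hr) (lt_irrefl _)

/-- the irreducible case -/
lemma gv_free_irred {Y : TopCat.{u}} [IrreducibleSpace Y]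
    (IH : ∀ T : Set Y, IsClosed T → T ≠ Set.univ → GV (TopCat.of T))
    (U : Opens Y) (r : ℕ) (hr : topologicalKrullDim Y < (r : WithBot ℕ∞)) :
    Subsingleton (CohTop.H (CohCx.freeSheaf (Opens.grothendieckTopology Y) U) r) := by
  have hne : Nonempty Y := IrreducibleSpace.toNonempty
  obtain ⟨r', rfl⟩ := pos_of_dim_lt r hr
  by_cases hU : U = ⊥
  · subst hU
    refine H_subsingleton_of_supp (∅ : Set Y) isClosed_empty
      (IH ∅ isClosed_empty (Set.empty_ne_univ)) _ ?_ _ (dim_empty_lt _)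
    intro x _
    refine stalk_shf_isZero (freePre (⊥ : Opens Y)) x ⊤ trivial (fun W _ hxW => ?_)
    exact freePre_subsingleton_of_not_le ⊥ W (fun hW => (hW hxW).elim)
  · have hTc : IsClosed ((U : Set Y)ᶜ) := U.2.isClosed_compl
    have hTne : ((U : Set Y)ᶜ) ≠ Set.univ := by
      intro h
      apply hU
      rw [Set.compl_univ_iff] at h
      exact Opens.ext h
    have hφ := cstMap_injective U (⟨1⟩ : ULift.{u} ℤ)
      (ulift_zsmul_eq_zero _ ulift_one_ne_zero)
    have hS := shortExact_coker (cstMap U (⟨1⟩ : ULift.{u} ℤ)) hφ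
    refine ext_subsingleton_X₁ hS r' ?_ (Groth.Agent.S0457.result (ULift.{u} ℤ) r')
    refine H_subsingleton_of_supp _ hTc (IH _ hTc hTne) _ ?_ r'
      (dim_lt_of_proper_closed _ hTc hTne r' hr)
    intro x hx
    have hxU : x ∈ U := by
      by_contra hcon
      exact hx hcon
    refine stalk_shf_isZero _ x U hxU (fun W hW _ => ?_)
    apply quotPre_subsingleton
    rw [range_cstMap, elem_carrier_of_le _ hW, zmultiples_ulift_one]

lemma zsmul_of_eq_zero {T : Type*} (t : T) (n : ℤ)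
    (h : n • (FreeAbelianGroup.of t : FreeAbelianGroup T) = 0) : n = 0 := by
  have := congrArg (FreeAbelianGroup.lift (fun _ : T => (1 : ℤ))) h
  rw [map_zsmul, FreeAbelianGroup.lift_apply_of, map_zero] at this
  simpa using this

lemma lift_of_injective {T' T : Type*} [Subsingleton T'] (f : T' → T) :
    Function.Injective (FreeAbelianGroup.lift (fun t : T' => FreeAbelianGroup.of (f t))) := by
  rw [injective_iff_map_eq_zero]
  intro z hz
  rcases freeAbelianGroup_subsingleton_cases z with rfl | ⟨t, n, rfl⟩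
  · rfl
  · rw [map_zsmul, FreeAbelianGroup.lift_apply_of] at hz
    rw [zsmul_of_eq_zero _ n hz, zero_smul]

lemma lift_of_surjective {T' T : Type*} [Subsingleton T] (f : T' → T) (g : T → T') :
    Function.Surjective (FreeAbelianGroup.lift (fun t : T' => FreeAbelianGroup.of (f t))) := by
  intro z
  rcases freeAbelianGroup_subsingleton_cases z with rfl | ⟨t, n, rfl⟩
  · exact ⟨0, map_zero _⟩
  · refine ⟨n • FreeAbelianGroup.of (g t), ?_⟩
    rw [map_zsmul, FreeAbelianGroup.lift_apply_of, Subsingleton.elim (f (g t)) t]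

/-- the map `ℤ[h_{V'}] ⟶ ℤ[h_V]` for `V' ≤ V` -/
def freePreMap {Y : TopCat.{u}} {V' V : Opens Y} (h : V' ≤ V) : freePre V' ⟶ freePre V :=
  secMap (freePre V) V' (FreeAbelianGroup.of (homOfLE h) : FreeAbelianGroup (V' ⟶ V))

lemma freePreMap_app_hom {Y : TopCat.{u}} {V' V : Opens Y} (h : V' ≤ V) (W : (Opens Y)ᵒᵖ) :
    ((freePreMap h).app W).hom =
      FreeAbelianGroup.lift
        (fun t : W.unop ⟶ V' => (FreeAbelianGroup.of (t ≫ homOfLE h) :
          FreeAbelianGroup (W.unop ⟶ V))) := by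
  change FreeAbelianGroup.lift (fun t : W.unop ⟶ V' =>
    FreeAbelianGroup.map (fun g => t ≫ g) (FreeAbelianGroup.of (homOfLE h))) = _
  congr 1

lemma freePreMap_injective {Y : TopCat.{u}} {V' V : Opens Y} (h : V' ≤ V) (W : (Opens Y)ᵒᵖ) :
    Function.Injective ((freePreMap h).app W) := by
  change Function.Injective ((freePreMap h).app W).hom
  rw [freePreMap_app_hom]
  exact lift_of_injective _

lemma range_freePreMap_eq_top {Y : TopCat.{u}} {V' V : Opens Y} (h : V' ≤ V) (W : (Opens Y)ᵒᵖ)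
    (hW : W.unop ≤ V → W.unop ≤ V') :
    (SubPre.range (freePreMap h)).carrier W = ⊤ := by
  change ((freePreMap h).app W).hom.range = ⊤
  rw [freePreMap_app_hom, AddMonoidHom.range_eq_top]
  exact lift_of_surjective _ (fun t => homOfLE (hW t.le))

/-- the reducible case -/
lemma gv_free_red {Y : TopCat.{u}} [Nonempty Y] (hirr : ¬ IrreducibleSpace Y)
    (IH : ∀ T : Set Y, IsClosed T → T ≠ Set.univ → GV (TopCat.of T))
    (U : Opens Y) (r : ℕ) (hr : topologicalKrullDim Y < (r : WithBot ℕ∞)) :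
    Subsingleton (CohTop.H (CohCx.freeSheaf (Opens.grothendieckTopology Y) U) r) := by
  have hpre : ¬ IsPreirreducible (Set.univ : Set Y) := by
    intro h
    exact hirr { isPreirreducible_univ := h, toNonempty := ‹_› }
  unfold IsPreirreducible at hpre
  push Not at hpre
  obtain ⟨u, v, hu, hv, ⟨x₁, _, hx₁⟩, ⟨x₂, _, hx₂⟩, hdisj⟩ := hpre
  have hdisj' : ∀ x, x ∈ u → x ∈ v → False := by
    intro x hxu hxv
    have : (Set.univ ∩ (u ∩ v)).Nonempty := ⟨x, Set.mem_univ _, hxu, hxv⟩
    rw [hdisj] at this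
    exact Set.not_nonempty_empty this
  let V : Opens Y := ⟨v, hv⟩
  have hT₁c : IsClosed (uᶜ) := hu.isClosed_compl
  have hT₁ne : uᶜ ≠ Set.univ := fun h => (h ▸ Set.mem_univ x₁ : x₁ ∈ uᶜ) hx₁
  have hT₂c : IsClosed (vᶜ) := hv.isClosed_compl
  have hT₂ne : vᶜ ≠ Set.univ := fun h => (h ▸ Set.mem_univ x₂ : x₂ ∈ vᶜ) hx₂
  have hle : U ⊓ V ≤ U := inf_le_left
  have hS := shortExact_coker (freePreMap hle) (freePreMap_injective hle)
  refine ext_subsingleton_X₂ hS r ?_ ?_
  · refine H_subsingleton_of_supp _ hT₁c (IH _ hT₁c hT₁ne) _ ?_ r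
      (lt_of_le_of_lt (topologicalKrullDim_subspace_le Y _) hr)
    intro x hx
    have hxu : x ∈ u := by
      by_contra hcon
      exact hx hcon
    refine stalk_shf_isZero _ x ⟨u, hu⟩ hxu (fun W _ hxW => ?_)
    apply freePre_subsingleton_of_not_le
    intro hW
    exact hdisj' x hxu (hW hxW).2
  · refine H_subsingleton_of_supp _ hT₂c (IH _ hT₂c hT₂ne) _ ?_ r
      (lt_of_le_of_lt (topologicalKrullDim_subspace_le Y _) hr)
    intro x hx
    have hxv : x ∈ V := by
      by_contra hcon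
      exact hx hcon
    refine stalk_shf_isZero _ x V hxv (fun W hW _ => ?_)
    apply quotPre_subsingleton
    exact range_freePreMap_eq_top hle (op W) (fun hWU => le_inf hWU hW)

end Groth.Agent.H86.GV
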